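import Mathlib

/-!
Word maps on `SL₂`: a non-trivial word, evaluated at `aᵢ = U(α Xⁱ⁺¹) L(β Xⁱ⁺¹)` over `F[X]`,
is not a scalar matrix, and the degree of its entries is bounded independently of `F`.
-/

set_option autoImplicit false

namespace CfsgLib.Word

open Matrix Polynomial

variable {R : Type*} [CommRing R]

/-- Upper unitriangular element. -/
def upp (s : R) : Matrix.SpecialLinearGroup (Fin 2) R :=
  ⟨!![1, s; 0, 1], by simp [Matrix.det_fin_two_of]⟩

/-- Lower unitriangular element. -/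
def low (s : R) : Matrix.SpecialLinearGroup (Fin 2) R :=
  ⟨!![1, 0; s, 1], by simp [Matrix.det_fin_two_of]⟩

@[simp] theorem upp_val (s : R) : (upp s).1 = !![1, s; 0, 1] := rfl

@[simp] theorem low_val (s : R) : (low s).1 = !![1, 0; s, 1] := rfl

theorem upp_add (s t : R) : upp (s + t) = upp s * upp t := by
  apply Subtype.ext
  simp [Matrix.SpecialLinearGroup.coe_mul, add_comm]

theorem low_add (s t : R) : low (s + t) = low s * low t := by
  apply Subtype.ext
  simp [Matrix.SpecialLinearGroup.coe_mul, add_comm]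

@[simp] theorem upp_zero : upp (0 : R) = 1 := by
  ext i j; fin_cases i <;> fin_cases j <;> simp [upp]

@[simp] theorem low_zero : low (0 : R) = 1 := by
  ext i j; fin_cases i <;> fin_cases j <;> simp [low]

theorem upp_inv (s : R) : (upp s)⁻¹ = upp (-s) :=
  inv_eq_of_mul_eq_one_right (by rw [← upp_add, add_neg_cancel, upp_zero])

theorem low_inv (s : R) : (low s)⁻¹ = low (-s) :=
  inv_eq_of_mul_eq_one_right (by rw [← low_add, add_neg_cancel, low_zero])

theorem map_upp {S : Type*} [CommRing S] (f : R →+* S) (s : R) :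
    Matrix.SpecialLinearGroup.map f (upp s) = upp (f s) := by
  apply Subtype.ext
  ext i j; fin_cases i <;> fin_cases j <;> simp [Matrix.SpecialLinearGroup.map_apply_coe]

theorem map_low {S : Type*} [CommRing S] (f : R →+* S) (s : R) :
    Matrix.SpecialLinearGroup.map f (low s) = low (f s) := by
  apply Subtype.ext
  ext i j; fin_cases i <;> fin_cases j <;> simp [Matrix.SpecialLinearGroup.map_apply_coe]

/-- The generators used for the evaluation of a word. -/
def gen (α β x : R) (i : ℕ) : Matrix.SpecialLinearGroup (Fin 2) R :=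
  upp (α * x ^ (i + 1)) * low (β * x ^ (i + 1))

theorem map_gen {S : Type*} [CommRing S] (f : R →+* S) (α β x : R) (i : ℕ) :
    Matrix.SpecialLinearGroup.map f (gen α β x i) = gen (f α) (f β) (f x) i := by
  simp [gen, map_upp, map_low]

theorem map_lift_gen {S : Type*} [CommRing S] (f : R →+* S) (α β x : R) (w : FreeGroup ℕ) :
    Matrix.SpecialLinearGroup.map f (FreeGroup.lift (gen α β x) w) =
      FreeGroup.lift (gen (f α) (f β) (f x)) w := by
  have := FreeGroup.lift_unique (f := gen (f α) (f β) (f x))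
    ((Matrix.SpecialLinearGroup.map f).comp (FreeGroup.lift (gen α β x)))
    (fun i => by simp [map_gen]) (x := w)
  simpa using this

/-! ### Ping-pong -/

section pingpong

variable {F : Type*} [Field F]

/-- Vectors dominated by the first coordinate. -/
def Top (v : Fin 2 → F[X]) : Prop := (v 1).degree < (v 0).degree

/-- Vectors dominated by the second coordinate. -/
def Bot (v : Fin 2 → F[X]) : Prop := (v 0).degree < (v 1).degree

theorem upp_mulVec (s : F[X]) (v : Fin 2 → F[X]) :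
    (upp s : Matrix.SpecialLinearGroup (Fin 2) F[X]).1 *ᵥ v = ![v 0 + s * v 1, v 1] := by
  ext i; fin_cases i <;> simp [Matrix.mulVec, dotProduct, Fin.sum_univ_two]

theorem low_mulVec (s : F[X]) (v : Fin 2 → F[X]) :
    (low s : Matrix.SpecialLinearGroup (Fin 2) F[X]).1 *ᵥ v = ![v 0, s * v 0 + v 1] := by
  ext i; fin_cases i <;> simp [Matrix.mulVec, dotProduct, Fin.sum_univ_two]

theorem degree_lt_degree_mul {s p : F[X]} (hs : 0 < s.degree) (hp : p ≠ 0) :
    p.degree < (s * p).degree := by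
  have hs0 : s ≠ 0 := fun h => by simp [h] at hs
  rw [degree_mul, degree_eq_natDegree hs0, degree_eq_natDegree hp]
  have : 0 < s.natDegree := natDegree_pos_iff_degree_pos.2 hs
  exact_mod_cast (by omega : p.natDegree < s.natDegree + p.natDegree)

theorem top_upp {s : F[X]} (hs : 0 < s.degree) {v : Fin 2 → F[X]}
    (h : (v 0).degree ≤ (v 1).degree) (hv : v 1 ≠ 0) :
    Top ((upp s : Matrix.SpecialLinearGroup (Fin 2) F[X]).1 *ᵥ v) := by
  rw [upp_mulVec]
  have hlt := degree_lt_degree_mul hs hv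
  show (v 1).degree < (v 0 + s * v 1).degree
  rwa [degree_add_eq_right_of_degree_lt (lt_of_le_of_lt h hlt)]

theorem bot_low {s : F[X]} (hs : 0 < s.degree) {v : Fin 2 → F[X]}
    (h : (v 1).degree ≤ (v 0).degree) (hv : v 0 ≠ 0) :
    Bot ((low s : Matrix.SpecialLinearGroup (Fin 2) F[X]).1 *ᵥ v) := by
  rw [low_mulVec]
  have hlt := degree_lt_degree_mul hs hv
  show (v 0).degree < (s * v 0 + v 1).degree
  rwa [degree_add_eq_left_of_degree_lt (lt_of_le_of_lt h hlt)]

theorem top_of_bot {s : F[X]} (hs : 0 < s.degree) {v : Fin 2 → F[X]} (h : Bot v) :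
    Top ((upp s : Matrix.SpecialLinearGroup (Fin 2) F[X]).1 *ᵥ v) :=
  top_upp hs h.le fun hv => by simp [Bot, hv] at h

theorem bot_of_top {s : F[X]} (hs : 0 < s.degree) {v : Fin 2 → F[X]} (h : Top v) :
    Bot ((low s : Matrix.SpecialLinearGroup (Fin 2) F[X]).1 *ᵥ v) :=
  bot_low hs h.le fun hv => by simp [Top, hv] at h

theorem degree_C_mul_X_pow_succ {α : F} (hα : α ≠ 0) (i : ℕ) :
    0 < (C α * X ^ (i + 1) : F[X]).degree := by
  rw [degree_C_mul_X_pow _ hα]; exact_mod_cast Nat.succ_pos i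

theorem degree_C_mul_sub {α : F} (hα : α ≠ 0) {i j : ℕ} (hij : i ≠ j) :
    0 < (C α * X ^ (i + 1) + -(C α * X ^ (j + 1)) : F[X]).degree := by
  have hne : ((i + 1 : ℕ) : WithBot ℕ) ≠ ((j + 1 : ℕ) : WithBot ℕ) := by
    intro h; exact hij (by simpa using WithBot.coe_injective h)
  rcases lt_or_gt_of_ne hne with h | h
  · rw [degree_add_eq_right_of_degree_lt] <;> simp only [degree_neg, degree_C_mul_X_pow _ hα]
    · exact_mod_cast Nat.succ_pos j
    · exact h
  · rw [degree_add_eq_left_of_degree_lt] <;> simp only [degree_neg, degree_C_mul_X_pow _ hα]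
    · exact_mod_cast Nat.succ_pos i
    · exact h

variable (α β : F)

/-- Value of a letter. -/
noncomputable def letter (p : ℕ × Bool) : Matrix.SpecialLinearGroup (Fin 2) F[X] :=
  cond p.2 (gen (C α) (C β) X p.1) (gen (C α) (C β) X p.1)⁻¹

/-- Product of the letters of a word. -/
noncomputable def wordVal (l : List (ℕ × Bool)) : Matrix.SpecialLinearGroup (Fin 2) F[X] :=
  (l.map (letter α β)).prod

/-- The invariant: the last factor applied leaves a vector on the expected side. -/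
def Inv (p : ℕ × Bool) (v : Fin 2 → F[X]) : Prop :=
  if p.2 then ∃ u, Bot u ∧ v = (upp (C α * X ^ (p.1 + 1))).1 *ᵥ u
  else ∃ u, Top u ∧ v = (low (-(C β * X ^ (p.1 + 1)))).1 *ᵥ u

variable {α β}

theorem letter_true (i : ℕ) :
    letter α β (i, true) = upp (C α * X ^ (i + 1)) * low (C β * X ^ (i + 1)) := rfl

theorem letter_false (i : ℕ) :
    letter α β (i, false) = low (-(C β * X ^ (i + 1))) * upp (-(C α * X ^ (i + 1))) := by
  show (gen (C α) (C β) X i)⁻¹ = _
  rw [gen, _root_.mul_inv_rev, upp_inv, low_inv]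

theorem mul_mulVec_sl (A B : Matrix.SpecialLinearGroup (Fin 2) F[X]) (v : Fin 2 → F[X]) :
    (A * B).1 *ᵥ v = A.1 *ᵥ (B.1 *ᵥ v) := by
  rw [Matrix.SpecialLinearGroup.coe_mul, Matrix.mulVec_mulVec]

theorem inv_step (hα : α ≠ 0) (hβ : β ≠ 0) {p q : ℕ × Bool} (hpq : p.1 = q.1 → p.2 = q.2)
    {v : Fin 2 → F[X]} (hv : Inv α β q v) : Inv α β p ((letter α β p).1 *ᵥ v) := by
  obtain ⟨i, b⟩ := p
  obtain ⟨j, c⟩ := q
  cases b <;> cases c <;> simp only [Inv, Bool.false_eq_true, if_true, if_false] at hv ⊢ <;>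
    obtain ⟨u, hu, rfl⟩ := hv
  · refine ⟨_, ?_, by rw [letter_false, mul_mulVec_sl]⟩
    refine top_of_bot (by rw [degree_neg]; exact degree_C_mul_X_pow_succ hα i) ?_
    exact bot_of_top (by rw [degree_neg]; exact degree_C_mul_X_pow_succ hβ j) hu
  · have hij : j ≠ i := fun h => Bool.false_ne_true (hpq h.symm)
    refine ⟨_, ?_, by rw [letter_false, mul_mulVec_sl]⟩
    rw [← mul_mulVec_sl, ← upp_add, add_comm]
    exact top_of_bot (degree_C_mul_sub hα hij) hu
  · have hij : i ≠ j := fun h => Bool.false_ne_true (hpq h).symm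
    refine ⟨_, ?_, by rw [letter_true, mul_mulVec_sl]⟩
    rw [← mul_mulVec_sl, ← low_add]
    exact bot_of_top (degree_C_mul_sub hβ hij) hu
  · refine ⟨_, ?_, by rw [letter_true, mul_mulVec_sl]⟩
    exact bot_of_top (degree_C_mul_X_pow_succ hβ i)
      (top_of_bot (degree_C_mul_X_pow_succ hα j) hu)

theorem inv_base (hα : α ≠ 0) (hβ : β ≠ 0) (p : ℕ × Bool) :
    Inv α β p ((letter α β p).1 *ᵥ fun _ => 1) := by
  obtain ⟨i, b⟩ := p
  cases b <;> simp only [Inv, Bool.false_eq_true, if_true, if_false]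
  · exact ⟨_, top_upp (by rw [degree_neg]; exact degree_C_mul_X_pow_succ hα i) le_rfl one_ne_zero,
      by rw [letter_false, mul_mulVec_sl]⟩
  · exact ⟨_, bot_low (degree_C_mul_X_pow_succ hβ i) le_rfl one_ne_zero,
      by rw [letter_true, mul_mulVec_sl]⟩

theorem inv_wordVal (hα : α ≠ 0) (hβ : β ≠ 0) :
    ∀ (l : List (ℕ × Bool)) (p : ℕ × Bool), FreeGroup.IsReduced (p :: l) →
      Inv α β p ((wordVal α β (p :: l)).1 *ᵥ fun _ => 1)
  | [], p, _ => by simpa [wordVal] using inv_base hα hβ p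
  | q :: l, p, h => by
    rw [FreeGroup.isReduced_cons_cons] at h
    have := inv_step hα hβ h.1 (inv_wordVal hα hβ l q h.2)
    rwa [wordVal, List.map_cons, List.prod_cons, mul_mulVec_sl]

theorem degree_ne_of_inv (hα : α ≠ 0) (hβ : β ≠ 0) {p : ℕ × Bool} {v : Fin 2 → F[X]}
    (h : Inv α β p v) : (v 0).degree ≠ (v 1).degree := by
  obtain ⟨i, b⟩ := p
  cases b <;> simp only [Inv, Bool.false_eq_true, if_true, if_false] at h <;>
    obtain ⟨u, hu, rfl⟩ := h
  · exact (bot_of_top (by rw [degree_neg]; exact degree_C_mul_X_pow_succ hβ i) hu).ne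
  · exact (top_of_bot (degree_C_mul_X_pow_succ hα i) hu).ne'

/-- A non-trivial word gives a matrix over `F[X]` that is not scalar. -/
theorem not_scalar_lift_gen (hα : α ≠ 0) (hβ : β ≠ 0) {w : FreeGroup ℕ} (hw : w ≠ 1) :
    let M : Matrix (Fin 2) (Fin 2) F[X] := (FreeGroup.lift (gen (C α) (C β) (X : F[X])) w).1
    M 0 1 ≠ 0 ∨ M 1 0 ≠ 0 ∨ M 0 0 ≠ M 1 1 := by
  intro M
  have hl : w.toWord ≠ [] := fun h => hw (FreeGroup.toWord_eq_nil_iff.1 h)
  obtain ⟨p, l, hpl⟩ := List.exists_cons_of_ne_nil hl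
  have hM : M = (wordVal α β (p :: l)).1 := by
    show (FreeGroup.lift (gen (C α) (C β) (X : F[X])) w).1 = _
    conv_lhs => rw [← FreeGroup.mk_toWord (x := w), hpl, FreeGroup.lift_mk]
    rfl
  have h := degree_ne_of_inv hα hβ (inv_wordVal hα hβ l p (hpl ▸ FreeGroup.isReduced_toWord))
  rw [← hM] at h
  by_contra hc
  push Not at hc
  obtain ⟨h01, h10, h00⟩ := hc
  simp [Matrix.mulVec, dotProduct, Fin.sum_univ_two, h01, h10, h00] at h

end pingpong

/-- A `2 × 2` matrix is scalar. -/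
def IsScalar2 (M : Matrix (Fin 2) (Fin 2) R) : Prop := M 0 1 = 0 ∧ M 1 0 = 0 ∧ M 0 0 = M 1 1

/-- Evaluation form: on a large enough set there is a point where the word is not scalar. -/
theorem exists_eval_not_scalar (w : FreeGroup ℕ) (hw : w ≠ 1) :
    ∃ D : ℕ, ∀ (F : Type*) [Field F] (α β : F) (S : Finset F), α ≠ 0 → β ≠ 0 → D < S.card →
      ∃ x ∈ S, ¬ IsScalar2 (FreeGroup.lift (gen α β x) w).1 := by
  classical
  set A := MvPolynomial (Fin 2) ℤ
  set M₀ := (FreeGroup.lift
    (gen (C (MvPolynomial.X 0 : A)) (C (MvPolynomial.X 1 : A)) (X : A[X])) w).1 with hM₀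
  refine ⟨Finset.univ.sup fun ij : Fin 2 × Fin 2 => (M₀ ij.1 ij.2).natDegree, ?_⟩
  intro F _ α β S hα hβ hS
  set φ : A →+* F := MvPolynomial.eval₂Hom (Int.castRingHom F) ![α, β]
  set M := (FreeGroup.lift (gen (C α) (C β) (X : F[X])) w).1 with hMdef
  have hM : ∀ i j, M i j = (M₀ i j).map φ := by
    intro i j
    have := congrArg (fun g : Matrix.SpecialLinearGroup (Fin 2) F[X] => g.1 i j)
      (map_lift_gen (Polynomial.mapRingHom φ) (C (MvPolynomial.X 0 : A))
        (C (MvPolynomial.X 1 : A)) X w)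
    have h0 : φ (MvPolynomial.X 0) = α := MvPolynomial.eval₂Hom_X' _ _ _
    have h1 : φ (MvPolynomial.X 1) = β := MvPolynomial.eval₂Hom_X' _ _ _
    simp only [Matrix.SpecialLinearGroup.map_apply_coe, RingHom.mapMatrix_apply, Matrix.map_apply,
      Polynomial.coe_mapRingHom, Polynomial.map_C, Polynomial.map_X, h0, h1] at this
    exact this.symm
  have hdeg : ∀ i j, (M i j).natDegree < S.card := fun i j =>
    lt_of_le_of_lt ((hM i j) ▸ natDegree_map_le.trans
      (Finset.le_sup (f := fun ij : Fin 2 × Fin 2 => (M₀ ij.1 ij.2).natDegree)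
        (Finset.mem_univ (i, j)))) hS
  have key : ∀ P : F[X], P ≠ 0 → P.natDegree < S.card → ∃ x ∈ S, P.eval x ≠ 0 := by
    intro P hP hd
    by_contra hc
    push Not at hc
    exact hP (Polynomial.eq_zero_of_natDegree_lt_card_of_eval_eq_zero' P S hc hd)
  have hev : ∀ (x : F) (i j : Fin 2),
      (FreeGroup.lift (gen α β x) w).1 i j = (M i j).eval x := by
    intro x i j
    have := congrArg (fun g : Matrix.SpecialLinearGroup (Fin 2) F => g.1 i j)
      (map_lift_gen (Polynomial.evalRingHom x) (C α) (C β) X w)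
    simp at this
    exact this.symm
  rcases not_scalar_lift_gen hα hβ hw with h | h | h
  · obtain ⟨x, hx, hne⟩ := key _ h (hdeg 0 1)
    exact ⟨x, hx, fun hs => hne (hev x 0 1 ▸ hs.1)⟩
  · obtain ⟨x, hx, hne⟩ := key _ h (hdeg 1 0)
    exact ⟨x, hx, fun hs => hne (hev x 1 0 ▸ hs.2.1)⟩
  · obtain ⟨x, hx, hne⟩ := key _ (sub_ne_zero.2 h)
      (lt_of_le_of_lt (natDegree_sub_le _ _) (max_lt (hdeg 0 0) (hdeg 1 1)))
    refine ⟨x, hx, fun hs => hne ?_⟩
    have h' := hs.2.2
    rw [hev, hev] at h'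
    rw [eval_sub, sub_eq_zero]
    exact h'

/-- If a matrix commutes with `upp α` and `low β` (both non-zero) then it is scalar. -/
theorem isScalar2_of_commute {F : Type*} [Field F] {α β : F} (hα : α ≠ 0) (hβ : β ≠ 0)
    {M : Matrix.SpecialLinearGroup (Fin 2) F} (hu : Commute M (upp α)) (hl : Commute M (low β)) :
    IsScalar2 M.1 := by
  have hu' := congrArg Subtype.val hu.eq
  have hl' := congrArg Subtype.val hl.eq
  have e1 := congrFun (congrFun hu' 0) 1
  have e2 := congrFun (congrFun hu' 0) 0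
  have e3 := congrFun (congrFun hl' 0) 0
  simp [Matrix.SpecialLinearGroup.coe_mul, Matrix.mul_apply, Fin.sum_univ_two] at e1 e2 e3
  have h10 : M.1 1 0 = 0 := e2.resolve_left hα
  have h01 : M.1 0 1 = 0 := e3.resolve_right hβ
  refine ⟨h01, h10, ?_⟩
  have : α * (M.1 0 0 - M.1 1 1) = 0 := by linear_combination e1
  exact sub_eq_zero.1 ((mul_eq_zero.1 this).resolve_left hα)

end CfsgLib.Word
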