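import Mathlib
import Cfsg.Agent.Lib.Word.PingPong

/-!
Failure of a law in the derived subgroup modulo centre, and its transfer along injective maps.
-/

set_option autoImplicit false

namespace CfsgLib.Word

open Subgroup

/-- An injective hom carries non-central elements to non-central elements. -/
theorem not_mem_center_of_injective {K H : Type*} [Group K] [Group H] {φ : K →* H}
    (hφ : Function.Injective φ) {k : K} (hk : k ∉ center K) : φ k ∉ center H := fun h =>
  hk (mem_center_iff.2 fun x => hφ (by simpa using mem_center_iff.1 h (φ x)))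

theorem lift_comp {K H : Type*} [Group K] [Group H] (φ : K →* H) (f : ℕ → K) (w : FreeGroup ℕ) :
    FreeGroup.lift (φ ∘ f) w = φ (FreeGroup.lift f w) := by
  symm
  simpa using FreeGroup.lift_unique (f := φ ∘ f) (φ.comp (FreeGroup.lift f))
    (fun i => by simp) (x := w)

/-- A non-central value of `w` gives failure of the law modulo the centre. -/
theorem fails_quotient_center {G : Type*} [Group G] {w : FreeGroup ℕ} {f : ℕ → G}
    (h : FreeGroup.lift f w ∉ center G) :
    ∃ g : ℕ → G ⧸ center G, FreeGroup.lift g w ≠ 1 := by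
  refine ⟨QuotientGroup.mk' _ ∘ f, ?_⟩
  rw [lift_comp]
  exact fun hc => h ((QuotientGroup.eq_one_iff _).1 hc)

/-- `w` takes a value in the derived subgroup of `G` that is not central there. -/
def Fails (w : FreeGroup ℕ) (G : Type*) [Group G] : Prop :=
  ∃ f : ℕ → commutator G, FreeGroup.lift f w ∉ center (commutator G)

theorem Fails.map {w : FreeGroup ℕ} {K H : Type*} [Group K] [Group H] (φ : K →* H)
    (hφ : Function.Injective φ) (h : Fails w K) : Fails w H := by
  obtain ⟨f, hf⟩ := h
  have hle : (commutator K).map φ ≤ commutator H := by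
    rw [map_commutator_eq]; exact commutator_mono le_top le_top
  let ψ : commutator K →* commutator H :=
    (φ.comp (commutator K).subtype).codRestrict (commutator H)
      fun x => hle (mem_map_of_mem φ x.2)
  have hψ : Function.Injective ψ := fun a b hab =>
    Subtype.ext (hφ (congrArg Subtype.val hab))
  exact ⟨ψ ∘ f, by rw [lift_comp]; exact not_mem_center_of_injective hψ hf⟩

theorem Fails.exists_not_mem_center {w : FreeGroup ℕ} {G : Type*} [Group G] (h : Fails w G) :
    ∃ f : ℕ → G, FreeGroup.lift f w ∉ center G := by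
  obtain ⟨f, hf⟩ := h
  exact ⟨(commutator G).subtype ∘ f,
    by rw [lift_comp]; exact not_mem_center_of_injective (subtype_injective _) hf⟩

theorem Fails.exists_ne_one {w : FreeGroup ℕ} {G : Type*} [Group G] (h : Fails w G) :
    ∃ f : ℕ → G, FreeGroup.lift f w ≠ 1 := by
  obtain ⟨f, hf⟩ := h.exists_not_mem_center
  exact ⟨f, fun he => hf (he ▸ one_mem _)⟩

theorem upp_eq_transvection {R : Type*} [CommRing R] (s : R) :
    upp s = Matrix.SpecialLinearGroup.transvection (zero_ne_one' (Fin 2)) s := by
  apply Subtype.ext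
  ext i j
  fin_cases i <;> fin_cases j <;> simp [Matrix.SpecialLinearGroup.transvection_coe]

theorem low_eq_transvection {R : Type*} [CommRing R] (s : R) :
    low s = Matrix.SpecialLinearGroup.transvection (one_ne_zero : (1 : Fin 2) ≠ 0) s := by
  apply Subtype.ext
  ext i j
  fin_cases i <;> fin_cases j <;> simp [Matrix.SpecialLinearGroup.transvection_coe]

/-- `SL₂` over a large finite field. -/
theorem exists_fails_sl2 (w : FreeGroup ℕ) (hw : w ≠ 1) :
    ∃ N : ℕ, ∀ (F : Type*) [Field F] [Fintype F], N ≤ Fintype.card F →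
      Fails w (Matrix.SpecialLinearGroup (Fin 2) F) := by
  classical
  obtain ⟨D, hD⟩ := exists_eval_not_scalar w hw
  refine ⟨max (D + 1) 4, ?_⟩
  intro F _ _ hF
  obtain ⟨a, ha, ha2⟩ : ∃ a : F, a ≠ 0 ∧ a ^ 2 ≠ 1 := by
    have hcard : ({0, 1, -1} : Finset F).card < Fintype.card F :=
      lt_of_le_of_lt Finset.card_le_three (by omega)
    obtain ⟨a, ha⟩ : ∃ a : F, a ∉ ({0, 1, -1} : Finset F) := by
      by_contra hc
      push Not at hc
      exact hcard.ne (Finset.card_eq_iff_eq_univ _ |>.2 (Finset.eq_univ_iff_forall.2 hc))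
    simp only [Finset.mem_insert, Finset.mem_singleton, not_or] at ha
    exact ⟨a, ha.1, by rw [sq_ne_one_iff]; exact ha.2⟩
  have hu : ∀ s : F, upp s ∈ commutator (Matrix.SpecialLinearGroup (Fin 2) F) := fun s => by
    rw [upp_eq_transvection]; exact Matrix.transvection_mem_commutator ha ha2 _ s
  have hl : ∀ s : F, low s ∈ commutator (Matrix.SpecialLinearGroup (Fin 2) F) := fun s => by
    rw [low_eq_transvection]; exact Matrix.transvection_mem_commutator ha ha2 _ s
  obtain ⟨x, -, hx⟩ := hD F 1 1 Finset.univ one_ne_zero one_ne_zero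
    (by rw [Finset.card_univ]; omega)
  refine ⟨fun i => ⟨gen 1 1 x i, mul_mem (hu _) (hl _)⟩, fun hc => hx ?_⟩
  have key : FreeGroup.lift (gen (1 : F) 1 x) w =
      (commutator (Matrix.SpecialLinearGroup (Fin 2) F)).subtype
        (FreeGroup.lift (fun i => (⟨gen 1 1 x i, mul_mem (hu _) (hl _)⟩ :
          commutator (Matrix.SpecialLinearGroup (Fin 2) F))) w) := by
    rw [← lift_comp]; rfl
  rw [key]
  exact isScalar2_of_commute (α := (1 : F)) (β := 1) one_ne_zero one_ne_zero
    (congrArg Subtype.val (mem_center_iff.1 hc ⟨upp 1, hu 1⟩)).symm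
    (congrArg Subtype.val (mem_center_iff.1 hc ⟨low 1, hl 1⟩)).symm

/-- The doubling map into the alternating group on two copies. -/
def doubleHom (α : Type*) [Fintype α] [DecidableEq α] :
    Equiv.Perm α →* alternatingGroup (α ⊕ α) :=
  ((Equiv.Perm.sumCongrHom α α).comp ((MonoidHom.id _).prod (MonoidHom.id _))).codRestrict _
    fun g => by
      rw [Equiv.Perm.mem_alternatingGroup]
      show Equiv.Perm.sign (Equiv.Perm.sumCongr g g) = 1
      rw [Equiv.Perm.sign_sumCongr, Int.units_mul_self]

theorem doubleHom_injective (α : Type*) [Fintype α] [DecidableEq α] :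
    Function.Injective (doubleHom α) := by
  intro g h hgh
  ext a
  have := Equiv.congr_fun (congrArg Subtype.val hgh) (Sum.inl a)
  exact Sum.inl_injective this

/-- Even permutations pushed along an embedding. -/
noncomputable def altEmbedding {α β : Type*} [Fintype α] [DecidableEq α] [Fintype β] [DecidableEq β]
    (ι : α ↪ β) : alternatingGroup α →* alternatingGroup β :=
  ((Equiv.Perm.viaEmbeddingHom ι).comp (alternatingGroup α).subtype).codRestrict _ fun g => by
    rw [Equiv.Perm.mem_alternatingGroup]
    show Equiv.Perm.sign (Equiv.Perm.viaEmbeddingHom ι g.1) = 1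
    rw [Equiv.Perm.viaEmbeddingHom_apply]
    unfold Equiv.Perm.viaEmbedding
    rw [Equiv.Perm.sign_extendDomain]
    exact g.2

theorem altEmbedding_injective {α β : Type*} [Fintype α] [DecidableEq α] [Fintype β]
    [DecidableEq β] (ι : α ↪ β) : Function.Injective (altEmbedding ι) := fun g h hgh =>
  Subtype.ext (Equiv.Perm.viaEmbeddingHom_injective ι (congrArg Subtype.val hgh))

/-- A finite group embeds in every alternating group of large degree. -/
theorem exists_hom_alternating {K : Type*} [Group K] [Fintype K] [DecidableEq K] {n : ℕ}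
    (hn : 2 * Fintype.card K ≤ n) :
    ∃ φ : K →* alternatingGroup (Fin n), Function.Injective φ := by
  have e : K ⊕ K ↪ Fin n :=
    (Fintype.equivFin (K ⊕ K)).toEmbedding.trans
      (Fin.castLEEmb (by rw [Fintype.card_sum]; omega))
  exact ⟨(altEmbedding e).comp ((doubleHom K).comp (MulAction.toPermHom K K)),
    (altEmbedding_injective e).comp ((doubleHom_injective K).comp MulAction.toPerm_injective)⟩

/-- Alternating groups of large degree. -/
theorem exists_fails_alternating (w : FreeGroup ℕ) (hw : w ≠ 1) :
    ∃ N : ℕ, ∀ n : ℕ, N ≤ n → Fails w (alternatingGroup (Fin n)) := by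
  classical
  obtain ⟨N, hN⟩ := exists_fails_sl2 w hw
  obtain ⟨p, hp, hpp⟩ := Nat.exists_infinite_primes N
  haveI := Fact.mk hpp
  refine ⟨2 * Fintype.card (Matrix.SpecialLinearGroup (Fin 2) (ZMod p)), fun n hn => ?_⟩
  obtain ⟨φ, hφ⟩ := exists_hom_alternating hn
  exact (hN (ZMod p) (by rw [ZMod.card]; exact hp)).map φ hφ

end CfsgLib.Word
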