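import Mathlib
import Cfsg.Agent.Lib.Word.Fails
import Cfsg.Prelude.Def_Sz

/-!
Word maps on the Suzuki groups: ping-pong in `GL₄(F[X])` with a dominant corner entry.
-/

set_option autoImplicit false

namespace CfsgLib.Word.Suzuki

open Matrix Polynomial

section general

variable {R : Type*} [CommRing R]

/-- General lower unitriangular template. -/
def tmpl (a b c d f h : R) : Matrix (Fin 4) (Fin 4) R :=
  !![1, 0, 0, 0; a, 1, 0, 0; b, c, 1, 0; d, f, h, 1]

/-- The lower unipotent element with parameter `t` (`s` stands for `t ^ e`). -/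
def Lm (t s : R) : Matrix (Fin 4) (Fin 4) R := tmpl t 0 s (s * t ^ 2) (s * t) t

/-- Inverse of `Lm`. -/
def Mm (t s : R) : Matrix (Fin 4) (Fin 4) R := tmpl t (s * t) s (s * t ^ 2) 0 t

/-- Conjugation by the antidiagonal. -/
def flip4 (N : Matrix (Fin 4) (Fin 4) R) : Matrix (Fin 4) (Fin 4) R :=
  N.submatrix Fin.rev Fin.rev

theorem flip4_mul (A B : Matrix (Fin 4) (Fin 4) R) : flip4 (A * B) = flip4 A * flip4 B :=
  (Matrix.submatrix_mul_equiv A B Fin.rev Fin.revPerm Fin.rev).symm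

theorem flip4_one : flip4 (1 : Matrix (Fin 4) (Fin 4) R) = 1 :=
  Matrix.submatrix_one_equiv Fin.revPerm

theorem tmpl_mul (a b c d f h a' b' c' d' f' h' : R) :
    tmpl a b c d f h * tmpl a' b' c' d' f' h' =
      tmpl (a + a') (b + c * a' + b') (c + c') (d + f * a' + h * b' + d') (f + h * c' + f')
        (h + h') := by
  unfold tmpl
  ext i j
  fin_cases i <;> fin_cases j <;>
    simp [Matrix.mul_apply, Fin.sum_univ_four] <;> ring

variable [CharP R 2]

theorem Lm_mul_Mm (t s : R) : Lm t s * Mm t s = 1 := by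
  rw [Lm, Mm, tmpl_mul]
  unfold tmpl
  have h2 : ∀ x : R, x + x = 0 := CharTwo.add_self_eq_zero
  ext i j
  fin_cases i <;> fin_cases j <;> simp [h2] <;>
    first | linear_combination h2 (s * t) | linear_combination h2 (s * t ^ 2) + h2 (s * t ^ 2)

theorem Mm_mul_Lm (t s : R) : Mm t s * Lm t s = 1 := by
  rw [Lm, Mm, tmpl_mul]
  unfold tmpl
  have h2 : ∀ x : R, x + x = 0 := CharTwo.add_self_eq_zero
  ext i j
  fin_cases i <;> fin_cases j <;> simp [h2] <;>
    first | linear_combination h2 (s * t) | linear_combination h2 (s * t ^ 2)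

/-- `Lm` as a unit. -/
def Lu (t s : R) : GL (Fin 4) R := ⟨Lm t s, Mm t s, Lm_mul_Mm t s, Mm_mul_Lm t s⟩

/-- Its conjugate upper unipotent element. -/
def Uu (t s : R) : GL (Fin 4) R :=
  ⟨flip4 (Lm t s), flip4 (Mm t s), by rw [← flip4_mul, Lm_mul_Mm, flip4_one],
    by rw [← flip4_mul, Mm_mul_Lm, flip4_one]⟩

/-- The generators. -/
def gen (e : ℕ) (x : R) (i : ℕ) : GL (Fin 4) R :=
  Uu (x ^ (i + 1)) ((x ^ (i + 1)) ^ e) * Lu (x ^ (i + 1)) ((x ^ (i + 1)) ^ e)

theorem map_tmpl {S : Type*} [CommRing S] (φ : R →+* S) (a b c d f h : R) :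
    (tmpl a b c d f h).map φ = tmpl (φ a) (φ b) (φ c) (φ d) (φ f) (φ h) := by
  ext i j
  fin_cases i <;> fin_cases j <;> simp [tmpl]

theorem map_gen {S : Type*} [CommRing S] [CharP S 2] (φ : R →+* S) (e : ℕ) (x : R) (i : ℕ) :
    Matrix.GeneralLinearGroup.map φ (gen e x i) = gen e (φ x) i := by
  rw [gen, gen, map_mul]
  congr 1
  · apply Units.ext
    show (flip4 (Lm (x ^ (i + 1)) ((x ^ (i + 1)) ^ e))).map φ = flip4 (Lm _ _)
    simp only [flip4, ← Matrix.submatrix_map, Lm, map_tmpl, map_mul, map_pow, map_zero]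
  · apply Units.ext
    show (Lm (x ^ (i + 1)) ((x ^ (i + 1)) ^ e)).map φ = Lm _ _
    simp only [Lm, map_tmpl, map_mul, map_pow, map_zero]

end general

/-! ### Membership in the Suzuki group -/

section membership

variable {F : Type*} [Field F] [CharP F 2] {e : ℕ}

theorem Lu_mem (he : e ≠ 0) (t : F) (ht : (t ^ e) ^ e = t ^ 2) :
    Lu t (t ^ e) ∈ Cfsg.Lie.Sz F e := by
  refine Subgroup.subset_closure ⟨fun u v => ?_, ?_⟩
  · show Cfsg.Lie.altForm4 (Lm t (t ^ e) *ᵥ u) (Lm t (t ^ e) *ᵥ v) = _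
    generalize t ^ e = s
    simp [Cfsg.Lie.altForm4, Lm, tmpl, Matrix.mulVec, dotProduct, Fin.sum_univ_four]
    grobner
  · show Cfsg.Lie.star4 (Lm t (t ^ e)) = (Lm t (t ^ e)).map fun x => x ^ e
    generalize hs : t ^ e = s at ht
    have ht2 : (t ^ 2) ^ e = s ^ 2 := by rw [← hs, ← pow_mul, ← pow_mul, mul_comm]
    ext i j
    fin_cases i <;> fin_cases j <;>
      simp [Cfsg.Lie.star4, Cfsg.Lie.pairOf, Lm, tmpl, he, mul_pow, ht, ht2, hs] <;> grobner

theorem Uu_mem (he : e ≠ 0) (t : F) (ht : (t ^ e) ^ e = t ^ 2) :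
    Uu t (t ^ e) ∈ Cfsg.Lie.Sz F e := by
  refine Subgroup.subset_closure ⟨fun u v => ?_, ?_⟩
  · show Cfsg.Lie.altForm4 (flip4 (Lm t (t ^ e)) *ᵥ u) (flip4 (Lm t (t ^ e)) *ᵥ v) = _
    generalize t ^ e = s
    simp [Cfsg.Lie.altForm4, flip4, Lm, tmpl, Matrix.mulVec, dotProduct, Fin.sum_univ_four,
      Fin.rev]
    grobner
  · show Cfsg.Lie.star4 (flip4 (Lm t (t ^ e))) = (flip4 (Lm t (t ^ e))).map fun x => x ^ e
    generalize hs : t ^ e = s at ht
    have ht2 : (t ^ 2) ^ e = s ^ 2 := by rw [← hs, ← pow_mul, ← pow_mul, mul_comm]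
    ext i j
    fin_cases i <;> fin_cases j <;>
      simp [Cfsg.Lie.star4, Cfsg.Lie.pairOf, flip4, Lm, tmpl, Fin.rev, he, mul_pow, ht, ht2, hs] <;>
        grobner

end membership

/-! ### Dominant entries -/

section pingpong

variable {F : Type*} [Field F]

/-- The `(r, s)` entry has strictly the largest degree. -/
def Dom (N : Matrix (Fin 4) (Fin 4) F[X]) (r s : Fin 4) : Prop :=
  ∀ i j, (i, j) ≠ (r, s) → (N i j).degree < (N r s).degree

/-- Coordinate `r` has strictly the largest degree. -/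
def Peak (r : Fin 4) (v : Fin 4 → F[X]) : Prop := ∀ i, i ≠ r → (v i).degree < (v r).degree

theorem Peak.weak {r : Fin 4} {v : Fin 4 → F[X]} (h : Peak r v) :
    (∀ i, (v i).degree ≤ (v r).degree) ∧ v r ≠ 0 := by
  refine ⟨fun i => ?_, fun h0 => ?_⟩
  · rcases eq_or_ne i r with rfl | hi
    · exact le_rfl
    · exact (h i hi).le
  · obtain ⟨i, hi⟩ := exists_ne r
    simpa [h0] using h i hi

theorem Dom.peak {N : Matrix (Fin 4) (Fin 4) F[X]} {r s : Fin 4} (hN : Dom N r s)
    {v : Fin 4 → F[X]} (hle : ∀ i, (v i).degree ≤ (v s).degree) (hv : v s ≠ 0) :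
    Peak r (N *ᵥ v) := by
  have hNrs : N r s ≠ 0 := by
    obtain ⟨i, hi⟩ := exists_ne r
    intro h0
    simpa [h0] using hN i s (by simp [hi])
  have hterm : ∀ i j, (i, j) ≠ (r, s) → (N i j * v j).degree < (N r s * v s).degree := by
    intro i j hij
    rw [degree_mul, degree_mul]
    rcases eq_or_ne (N i j) 0 with h0 | h0
    · simp only [h0, degree_zero, WithBot.bot_add]
      exact bot_lt_iff_ne_bot.2 (by simp [WithBot.add_eq_bot, hNrs, hv])
    rcases eq_or_ne (v j) 0 with h1 | h1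
    · simp only [h1, degree_zero, WithBot.add_bot]
      exact bot_lt_iff_ne_bot.2 (by simp [WithBot.add_eq_bot, hNrs, hv])
    have ha := hN i j hij
    have hb := hle j
    rw [degree_eq_natDegree h0, degree_eq_natDegree hNrs] at ha
    rw [degree_eq_natDegree h1, degree_eq_natDegree hv] at hb
    rw [degree_eq_natDegree h0, degree_eq_natDegree hNrs, degree_eq_natDegree h1,
      degree_eq_natDegree hv]
    have ha' : (N i j).natDegree < (N r s).natDegree := by exact_mod_cast ha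
    have hb' : (v j).natDegree ≤ (v s).natDegree := by exact_mod_cast hb
    exact_mod_cast (by omega :
      (N i j).natDegree + (v j).natDegree < (N r s).natDegree + (v s).natDegree)
  have hbot : (⊥ : WithBot ℕ) < (N r s * v s).degree :=
    bot_lt_iff_ne_bot.2 (by simp [hNrs, hv])
  have hsum : ∀ i, i ≠ r → ((N *ᵥ v) i).degree < (N r s * v s).degree := by
    intro i hi
    show (∑ j, N i j * v j).degree < _
    refine lt_of_le_of_lt (degree_sum_le _ _) ((Finset.sup_lt_iff hbot).2 fun j _ => ?_)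
    exact hterm i j (by simp [hi])
  have hr : ((N *ᵥ v) r).degree = (N r s * v s).degree := by
    show (∑ j, N r j * v j).degree = _
    rw [← Finset.add_sum_erase _ _ (Finset.mem_univ s)]
    apply degree_add_eq_left_of_degree_lt
    refine lt_of_le_of_lt (degree_sum_le _ _) ((Finset.sup_lt_iff hbot).2 fun j hj => ?_)
    exact hterm r j (by simp [(Finset.mem_erase.1 hj).1])
  exact fun i hi => hr ▸ hsum i hi

theorem Dom.peak' {N : Matrix (Fin 4) (Fin 4) F[X]} {r s : Fin 4} (hN : Dom N r s)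
    {v : Fin 4 → F[X]} (h : Peak s v) : Peak r (N *ᵥ v) :=
  hN.peak h.weak.1 h.weak.2

theorem Dom.flip {N : Matrix (Fin 4) (Fin 4) F[X]} {r s : Fin 4} (hN : Dom N r s) :
    Dom (flip4 N) r.rev s.rev := by
  intro i j hij
  simp only [flip4, Matrix.submatrix_apply, Fin.rev_rev]
  refine hN _ _ fun h => hij ?_
  simp only [Prod.mk.injEq] at h ⊢
  exact ⟨by rw [← h.1, Fin.rev_rev], by rw [← h.2, Fin.rev_rev]⟩

theorem dom_tmpl {a b c d f h : F[X]} {n : ℕ} (hn : 0 < n) (hd : d.degree = n)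
    (ha : a.degree < n) (hb : b.degree < n) (hc : c.degree < n) (hf : f.degree < n)
    (hh : h.degree < n) : Dom (tmpl a b c d f h) 3 0 := by
  intro i j hij
  have h30 : (tmpl a b c d f h 3 0).degree = n := hd
  rw [h30]
  have h0 : (0 : F[X]).degree < (n : WithBot ℕ) := by rw [degree_zero]; exact WithBot.bot_lt_coe n
  have h1 : (1 : F[X]).degree < (n : WithBot ℕ) := by rw [degree_one]; exact_mod_cast hn
  fin_cases i <;> fin_cases j <;> first | assumption | exact absurd rfl hij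

theorem degree_add_lt {p q : F[X]} {n : WithBot ℕ} (hp : p.degree < n) (hq : q.degree < n) :
    (p + q).degree < n :=
  lt_of_le_of_lt (degree_add_le _ _) (max_lt hp hq)

theorem degree_X_pow_lt {k n : ℕ} (h : k < n) : (X ^ k : F[X]).degree < n := by
  rw [degree_X_pow]; exact_mod_cast h

variable (e : ℕ)

theorem dom_Lm (A : ℕ) (hA : 0 < A) : Dom (Lm (X ^ A : F[X]) ((X ^ A) ^ e)) 3 0 := by
  refine dom_tmpl (n := A * e + A * 2) (by omega) ?_ ?_ ?_ ?_ ?_ ?_
  · rw [← pow_mul, ← pow_mul, ← pow_add, degree_X_pow]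
  · exact degree_X_pow_lt (by omega)
  · rw [degree_zero]; exact WithBot.bot_lt_coe _
  · rw [← pow_mul]; exact degree_X_pow_lt (by omega)
  · rw [← pow_mul, ← pow_add]; exact degree_X_pow_lt (by omega)
  · exact degree_X_pow_lt (by omega)

theorem dom_Mm (A : ℕ) (hA : 0 < A) : Dom (Mm (X ^ A : F[X]) ((X ^ A) ^ e)) 3 0 := by
  refine dom_tmpl (n := A * e + A * 2) (by omega) ?_ ?_ ?_ ?_ ?_ ?_
  · rw [← pow_mul, ← pow_mul, ← pow_add, degree_X_pow]
  · exact degree_X_pow_lt (by omega)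
  · rw [← pow_mul, ← pow_add]; exact degree_X_pow_lt (by omega)
  · rw [← pow_mul]; exact degree_X_pow_lt (by omega)
  · rw [degree_zero]; exact WithBot.bot_lt_coe _
  · exact degree_X_pow_lt (by omega)

theorem dom_Lm_mul_Mm {A C : ℕ} (hA : 0 < A) (hC : 0 < C) (hAC : A ≠ C) :
    Dom (Lm (X ^ A : F[X]) ((X ^ A) ^ e) * Mm (X ^ C) ((X ^ C) ^ e)) 3 0 := by
  rw [Lm, Mm, tmpl_mul]
  simp only [← pow_mul, ← pow_add, zero_add, add_zero]
  rcases Nat.lt_or_ge A C with h | h
  · have hm : A * e ≤ C * e := Nat.mul_le_mul_right e h.le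
    refine dom_tmpl (n := C * e + C * 2) (by omega) ?_ ?_ ?_ ?_ ?_ ?_
    · rw [degree_add_eq_right_of_degree_lt] <;> rw [degree_X_pow (C * e + C * 2)]
      exact degree_add_lt (degree_add_lt (degree_X_pow_lt (by omega)) (degree_X_pow_lt (by omega)))
        (degree_X_pow_lt (by omega))
    all_goals repeat' apply degree_add_lt
    all_goals exact degree_X_pow_lt (by omega)
  · have hm : C * e ≤ A * e := Nat.mul_le_mul_right e h
    refine dom_tmpl (n := A * e + A * 2) (by omega) ?_ ?_ ?_ ?_ ?_ ?_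
    · rw [add_assoc, add_assoc, degree_add_eq_left_of_degree_lt] <;> rw [degree_X_pow (A * e + A * 2)]
      exact degree_add_lt (degree_X_pow_lt (by omega))
        (degree_add_lt (degree_X_pow_lt (by omega)) (degree_X_pow_lt (by omega)))
    all_goals repeat' apply degree_add_lt
    all_goals exact degree_X_pow_lt (by omega)

theorem dom_Mm_mul_Lm {A C : ℕ} (hA : 0 < A) (hC : 0 < C) (hAC : A ≠ C) :
    Dom (Mm (X ^ A : F[X]) ((X ^ A) ^ e) * Lm (X ^ C) ((X ^ C) ^ e)) 3 0 := by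
  rw [Lm, Mm, tmpl_mul]
  simp only [← pow_mul, ← pow_add, zero_mul, mul_zero, add_zero, zero_add]
  rcases Nat.lt_or_ge A C with h | h
  · have hm : A * e ≤ C * e := Nat.mul_le_mul_right e h.le
    refine dom_tmpl (n := C * e + C * 2) (by omega) ?_ ?_ ?_ ?_ ?_ ?_
    · rw [degree_add_eq_right_of_degree_lt] <;> rw [degree_X_pow (C * e + C * 2)]
      exact degree_X_pow_lt (by omega)
    all_goals repeat' apply degree_add_lt
    all_goals exact degree_X_pow_lt (by omega)
  · have hm : C * e ≤ A * e := Nat.mul_le_mul_right e h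
    refine dom_tmpl (n := A * e + A * 2) (by omega) ?_ ?_ ?_ ?_ ?_ ?_
    · rw [degree_add_eq_left_of_degree_lt] <;> rw [degree_X_pow (A * e + A * 2)]
      exact degree_X_pow_lt (by omega)
    all_goals repeat' apply degree_add_lt
    all_goals exact degree_X_pow_lt (by omega)

variable [CharP F 2]

/-- Value of a letter. -/
noncomputable def letter (p : ℕ × Bool) : GL (Fin 4) F[X] :=
  cond p.2 (gen e X p.1) (gen e X p.1)⁻¹

/-- Invariant of the ping-pong. -/
def Inv (p : ℕ × Bool) (v : Fin 4 → F[X]) : Prop :=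
  if p.2 then ∃ u, Peak 3 u ∧ v = flip4 (Lm (X ^ (p.1 + 1)) ((X ^ (p.1 + 1)) ^ e)) *ᵥ u
  else ∃ u, Peak 0 u ∧ v = Mm (X ^ (p.1 + 1)) ((X ^ (p.1 + 1)) ^ e) *ᵥ u

theorem letter_true (i : ℕ) (v : Fin 4 → F[X]) :
    (letter e (i, true)).1 *ᵥ v =
      flip4 (Lm (X ^ (i + 1)) ((X ^ (i + 1)) ^ e)) *ᵥ
        (Lm (X ^ (i + 1)) ((X ^ (i + 1)) ^ e) *ᵥ v) := by
  rw [Matrix.mulVec_mulVec]; rfl

theorem letter_false (i : ℕ) (v : Fin 4 → F[X]) :
    (letter e (i, false)).1 *ᵥ v =
      Mm (X ^ (i + 1)) ((X ^ (i + 1)) ^ e) *ᵥ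
        (flip4 (Mm (X ^ (i + 1)) ((X ^ (i + 1)) ^ e)) *ᵥ v) := by
  rw [Matrix.mulVec_mulVec]; rfl

theorem inv_step {p q : ℕ × Bool} (hpq : p.1 = q.1 → p.2 = q.2)
    {v : Fin 4 → F[X]} (hv : Inv e q v) : Inv e p ((letter e p).1 *ᵥ v) := by
  obtain ⟨i, b⟩ := p
  obtain ⟨j, c⟩ := q
  cases b <;> cases c <;> simp only [Inv, Bool.false_eq_true, if_true, if_false] at hv ⊢ <;>
    obtain ⟨u, hu, rfl⟩ := hv
  · exact ⟨_, (dom_Mm e _ i.succ_pos).flip.peak' ((dom_Mm e _ j.succ_pos).peak' hu),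
      letter_false e i _⟩
  · refine ⟨_, ?_, letter_false e i _⟩
    rw [Matrix.mulVec_mulVec, ← flip4_mul]
    exact (dom_Mm_mul_Lm e i.succ_pos j.succ_pos
      (fun h => Bool.false_ne_true (hpq (Nat.succ_injective h)))).flip.peak' hu
  · refine ⟨_, ?_, letter_true e i _⟩
    rw [Matrix.mulVec_mulVec]
    exact (dom_Lm_mul_Mm e i.succ_pos j.succ_pos
      (fun h => Bool.false_ne_true (hpq (Nat.succ_injective h)).symm)).peak' hu
  · exact ⟨_, (dom_Lm e _ i.succ_pos).peak' ((dom_Lm e _ j.succ_pos).flip.peak' hu),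
      letter_true e i _⟩

theorem inv_base (p : ℕ × Bool) :
    Inv e p ((letter (F := F) e p).1 *ᵥ fun _ => 1) := by
  obtain ⟨i, b⟩ := p
  cases b <;> simp only [Inv, Bool.false_eq_true, if_true, if_false]
  · exact ⟨_, (dom_Mm e _ i.succ_pos).flip.peak (fun _ => le_rfl) one_ne_zero, letter_false e i _⟩
  · exact ⟨_, (dom_Lm e _ i.succ_pos).peak (fun _ => le_rfl) one_ne_zero, letter_true e i _⟩

theorem inv_word : ∀ (l : List (ℕ × Bool)) (p : ℕ × Bool), FreeGroup.IsReduced (p :: l) →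
    Inv e p ((((p :: l).map (letter (F := F) e)).prod).1 *ᵥ fun _ => 1)
  | [], p, _ => by simpa using inv_base e p
  | q :: l, p, h => by
    rw [FreeGroup.isReduced_cons_cons] at h
    have := inv_step e h.1 (inv_word l q h.2)
    rwa [List.map_cons, List.prod_cons, Units.val_mul, ← Matrix.mulVec_mulVec]

theorem lift_gen_ne_one {w : FreeGroup ℕ} (hw : w ≠ 1) :
    FreeGroup.lift (gen (R := F[X]) e X) w ≠ 1 := by
  intro hc
  have hl : w.toWord ≠ [] := fun h => hw (FreeGroup.toWord_eq_nil_iff.1 h)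
  obtain ⟨p, l, hpl⟩ := List.exists_cons_of_ne_nil hl
  rw [← FreeGroup.mk_toWord (x := w), hpl, FreeGroup.lift_mk] at hc
  have h := inv_word (F := F) e l p (hpl ▸ FreeGroup.isReduced_toWord)
  have hc' : ((p :: l).map (letter (F := F) e)).prod = 1 := hc
  rw [hc', Units.val_one, Matrix.one_mulVec] at h
  obtain ⟨i, b⟩ := p
  cases b <;> simp only [Inv, Bool.false_eq_true, if_true, if_false] at h <;>
    obtain ⟨u, hu, hv⟩ := h
  · have := (dom_Mm e _ i.succ_pos).peak' hu 0 (by decide)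
    rw [← hv] at this
    exact lt_irrefl _ this
  · have := (dom_Lm e _ i.succ_pos).flip.peak' hu 1 (by decide)
    rw [← hv] at this
    exact lt_irrefl _ this

/-- All entries have degree at most `d`. -/
def Bnd (N : Matrix (Fin 4) (Fin 4) F[X]) (d : ℕ) : Prop := ∀ i j, (N i j).natDegree ≤ d

theorem Bnd.mul {A B : Matrix (Fin 4) (Fin 4) F[X]} {a b : ℕ} (hA : Bnd A a) (hB : Bnd B b) :
    Bnd (A * B) (a + b) := fun i k => by
  rw [Matrix.mul_apply]
  exact natDegree_sum_le_of_forall_le _ _ fun j _ =>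
    natDegree_mul_le.trans (Nat.add_le_add (hA i j) (hB j k))

theorem Bnd.mono {A : Matrix (Fin 4) (Fin 4) F[X]} {a b : ℕ} (hA : Bnd A a) (h : a ≤ b) :
    Bnd A b := fun i j => (hA i j).trans h

theorem bnd_Lm (A : ℕ) : Bnd (Lm (X ^ A : F[X]) ((X ^ A) ^ e)) (A * e + A * 2) := by
  intro i j
  fin_cases i <;> fin_cases j <;> simp [Lm, tmpl, ← pow_mul, ← pow_add] <;> omega

theorem bnd_Mm (A : ℕ) : Bnd (Mm (X ^ A : F[X]) ((X ^ A) ^ e)) (A * e + A * 2) := by
  intro i j
  fin_cases i <;> fin_cases j <;> simp [Mm, tmpl, ← pow_mul, ← pow_add] <;> omega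

theorem bnd_letter (p : ℕ × Bool) :
    Bnd (letter (F := F) e p).1 (2 * (p.1 + 1) * (e + 2)) := by
  obtain ⟨i, b⟩ := p
  have hf : ∀ {N : Matrix (Fin 4) (Fin 4) F[X]} {d : ℕ}, Bnd N d → Bnd (flip4 N) d :=
    fun h i j => h _ _
  cases b
  · exact ((bnd_Mm e (i + 1)).mul (hf (bnd_Mm e (i + 1)))).mono (le_of_eq (by ring))
  · exact ((hf (bnd_Lm e (i + 1))).mul (bnd_Lm e (i + 1))).mono (le_of_eq (by ring))

theorem bnd_word : ∀ l : List (ℕ × Bool),
    Bnd ((l.map (letter (F := F) e)).prod).1 ((l.map fun p => 2 * (p.1 + 1)).sum * (e + 2))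
  | [] => fun i j => by
    simp only [List.map_nil, List.prod_nil, Units.val_one, List.sum_nil, zero_mul, nonpos_iff_eq_zero]
    rw [Matrix.one_apply]; split_ifs <;> simp
  | p :: l => by
    rw [List.map_cons, List.prod_cons, Units.val_mul, List.map_cons, List.sum_cons, add_mul]
    exact (bnd_letter e p).mul (bnd_word l)

end pingpong

/-- The law fails in `Sz(q)` for large `q`. -/
theorem exists_sz_ne_one (w : FreeGroup ℕ) (hw : w ≠ 1) :
    ∃ N : ℕ, ∀ (F : Type*) [Field F] [Fintype F] (m : ℕ), 1 ≤ m → N ≤ m →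
      Fintype.card F = 2 ^ (2 * m + 1) →
      ∃ f : ℕ → ↥(Cfsg.Lie.Sz F (2 ^ (m + 1))), FreeGroup.lift f w ≠ 1 := by
  classical
  set W := (w.toWord.map fun p => 2 * (p.1 + 1)).sum with hW
  refine ⟨4 * W + 4, ?_⟩
  intro F _ _ m _ hm hcard
  haveI : CharP F 2 := charP_of_card_eq_prime_pow (f := 2 * m + 1) hcard
  set e := 2 ^ (m + 1) with he
  have hpow : ∀ t : F, (t ^ e) ^ e = t ^ 2 := by
    intro t
    rw [← pow_mul, show e * e = 2 ^ (2 * m + 1) * 2 by rw [he, ← pow_add, ← pow_succ]; congr 1; omega,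
      pow_mul, ← hcard, FiniteField.pow_card]
  have hsmall : W * (e + 2) < Fintype.card F := by
    rw [hcard, show 2 ^ (2 * m + 1) = e * 2 ^ m by rw [he, ← pow_add]; congr 1; omega]
    have h1 : 4 * W + 4 < 2 ^ m := lt_of_le_of_lt hm Nat.lt_two_pow_self
    have h2 : 2 ≤ e := by rw [he]; exact le_self_pow (by norm_num) (by omega)
    nlinarith
  -- some entry of `W - 1` is a non-zero polynomial
  set P := (FreeGroup.lift (gen (R := F[X]) e X) w) with hP
  obtain ⟨i, j, hij⟩ : ∃ i j, P.1 i j - (1 : Matrix (Fin 4) (Fin 4) F[X]) i j ≠ 0 := by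
    by_contra hc
    push Not at hc
    exact lift_gen_ne_one (F := F) e hw (Units.ext (Matrix.ext fun i j => sub_eq_zero.1 (hc i j)))
  have hdeg : (P.1 i j - (1 : Matrix (Fin 4) (Fin 4) F[X]) i j).natDegree < Fintype.card F := by
    refine lt_of_le_of_lt ((natDegree_sub_le _ _).trans (max_le ?_ ?_)) hsmall
    · rw [hP, ← FreeGroup.mk_toWord (x := w), FreeGroup.lift_mk]
      exact bnd_word e w.toWord i j
    · rw [Matrix.one_apply]; split_ifs <;> simp
  obtain ⟨x, hx⟩ : ∃ x : F, (P.1 i j - (1 : Matrix (Fin 4) (Fin 4) F[X]) i j).eval x ≠ 0 := by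
    by_contra hc
    push Not at hc
    exact hij (Polynomial.eq_zero_of_natDegree_lt_card_of_eval_eq_zero' _ Finset.univ
      (fun x _ => hc x) (by rw [Finset.card_univ]; exact hdeg))
  have hmem : ∀ n, gen e x n ∈ Cfsg.Lie.Sz F e := fun n =>
    mul_mem (Uu_mem (by positivity) _ (hpow _)) (Lu_mem (by positivity) _ (hpow _))
  refine ⟨fun n => ⟨gen e x n, hmem n⟩, fun hc => hx ?_⟩
  have h1 : FreeGroup.lift (gen e x) w = 1 := by
    have := congrArg (Cfsg.Lie.Sz F e).subtype hc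
    rwa [map_one, ← CfsgLib.Word.lift_comp] at this
  have h2 : Matrix.GeneralLinearGroup.map (Polynomial.evalRingHom x) P = 1 := by
    rw [hP, ← CfsgLib.Word.lift_comp, ← h1]
    congr 2
    funext n
    show Matrix.GeneralLinearGroup.map (Polynomial.evalRingHom x) (gen e X n) = _
    rw [map_gen, Polynomial.coe_evalRingHom, eval_X]
  have h3 : ((P.1 i j).eval x) = (1 : Matrix (Fin 4) (Fin 4) F) i j :=
    congrArg (fun g : GL (Fin 4) F => g.1 i j) h2
  rw [eval_sub, h3, Matrix.one_apply, Matrix.one_apply]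
  split_ifs <;> simp

end CfsgLib.Word.Suzuki
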