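import Mathlib
import Cfsg.Agent.Lib.Word.Fails
import Cfsg.Prelude.Def_Classical

/-!
Embeddings of `SL₂` and of alternating groups into the classical groups.
-/

set_option autoImplicit false

namespace CfsgLib.Word

open Matrix

variable {F : Type*} [Field F]

/-- `SL(Fin 2)` in the upper left corner of `SL(Fin (2 + k))`. -/
def slCorner (k : ℕ) :
    Matrix.SpecialLinearGroup (Fin 2) F →* Matrix.SpecialLinearGroup (Fin (2 + k)) F where
  toFun A := ⟨Matrix.reindex finSumFinEquiv finSumFinEquiv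
      (Matrix.fromBlocks A.1 0 0 (1 : Matrix (Fin k) (Fin k) F)),
    by rw [Matrix.det_reindex_self, Matrix.det_fromBlocks_zero₂₁, A.2, Matrix.det_one, one_mul]⟩
  map_one' := by
    apply Subtype.ext
    simp [Matrix.fromBlocks_one]
  map_mul' A B := by
    apply Subtype.ext
    show _ = (Matrix.reindex finSumFinEquiv finSumFinEquiv
        (Matrix.fromBlocks A.1 0 0 (1 : Matrix (Fin k) (Fin k) F))) *
      (Matrix.reindex finSumFinEquiv finSumFinEquiv
        (Matrix.fromBlocks B.1 0 0 (1 : Matrix (Fin k) (Fin k) F)))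
    simp [Matrix.fromBlocks_multiply, Matrix.submatrix_mul_equiv]

theorem slCorner_injective (k : ℕ) : Function.Injective (slCorner (F := F) k) := by
  intro A B h
  have := (Matrix.reindex finSumFinEquiv finSumFinEquiv).injective (congrArg Subtype.val h)
  exact Subtype.ext (Matrix.fromBlocks_inj.1 this).1

/-- Even permutations as matrices of determinant one. -/
def altToSL (m : ℕ) : alternatingGroup (Fin m) →* Matrix.SpecialLinearGroup (Fin m) F where
  toFun σ := ⟨(σ.1⁻¹).permMatrix F, by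
    rw [Matrix.det_permutation, map_inv, Equiv.Perm.mem_alternatingGroup.1 σ.2]
    simp⟩
  map_one' := by
    apply Subtype.ext
    simp
  map_mul' σ τ := by
    apply Subtype.ext
    show ((σ * τ).1⁻¹).permMatrix F = (σ.1⁻¹).permMatrix F * (τ.1⁻¹).permMatrix F
    rw [Equiv.Perm.permMatrix, Equiv.Perm.permMatrix, Equiv.Perm.permMatrix,
      ← PEquiv.toMatrix_trans, ← Equiv.toPEquiv_trans]
    rfl

theorem altToSL_injective (m : ℕ) : Function.Injective (altToSL (F := F) m) := by
  intro σ τ h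
  apply Subtype.ext
  apply inv_injective
  have h' := PEquiv.toMatrix_injective (congrArg Subtype.val h)
  ext x
  have := congrArg (fun e : Fin m ≃. Fin m => e x) h'
  simp only [Equiv.toPEquiv_apply, Option.some.injEq] at this
  exact congrArg Fin.val this

/-- `SL_m` over a large field or of large rank. -/
theorem exists_fails_sl (w : FreeGroup ℕ) (hw : w ≠ 1) :
    ∃ N : ℕ, ∀ (F : Type*) [Field F] [Fintype F] (m : ℕ), 2 ≤ m →
      (N ≤ Fintype.card F ∨ N ≤ m) → Fails w (Matrix.SpecialLinearGroup (Fin m) F) := by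
  obtain ⟨N₁, h₁⟩ := exists_fails_sl2 w hw
  obtain ⟨N₂, h₂⟩ := exists_fails_alternating w hw
  refine ⟨max N₁ N₂, ?_⟩
  intro F _ _ m hm h
  obtain ⟨k, rfl⟩ := Nat.exists_eq_add_of_le hm
  rcases h with h | h
  · exact (h₁ F (le_of_max_le_left h)).map (slCorner k) (slCorner_injective k)
  · exact (h₂ _ (le_of_max_le_right h)).map (altToSL _) (altToSL_injective _)

/-- `A ↦ diag (A, A⁻ᵀ)`. -/
def hyperbolic (m : ℕ) :
    Matrix.SpecialLinearGroup (Fin m) F →* Matrix (Fin m ⊕ Fin m) (Fin m ⊕ Fin m) F where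
  toFun A := Matrix.fromBlocks A.1 0 0 (A⁻¹).1ᵀ
  map_one' := by simp [Matrix.fromBlocks_one]
  map_mul' A B := by
    simp [_root_.mul_inv_rev, Matrix.SpecialLinearGroup.coe_mul, Matrix.fromBlocks_multiply,
      Matrix.transpose_mul]

theorem hyperbolic_injective (m : ℕ) : Function.Injective (hyperbolic (F := F) m) := fun _ _ h =>
  Subtype.ext (Matrix.fromBlocks_inj.1 h).1

theorem sl_mul_inv_val {m : ℕ} (A : Matrix.SpecialLinearGroup (Fin m) F) :
    A.1 * (A⁻¹).1 = 1 := by
  rw [← Matrix.SpecialLinearGroup.coe_mul, mul_inv_cancel, Matrix.SpecialLinearGroup.coe_one]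

theorem sl_inv_mul_val {m : ℕ} (A : Matrix.SpecialLinearGroup (Fin m) F) :
    (A⁻¹).1 * A.1 = 1 := by
  rw [← Matrix.SpecialLinearGroup.coe_mul, inv_mul_cancel, Matrix.SpecialLinearGroup.coe_one]

theorem hyperbolic_mem_symplectic (m : ℕ) (A : Matrix.SpecialLinearGroup (Fin m) F) :
    hyperbolic m A ∈ Matrix.symplecticGroup (Fin m) F := by
  rw [SymplecticGroup.mem_iff]
  show Matrix.fromBlocks _ _ _ _ * Matrix.J (Fin m) F * (Matrix.fromBlocks _ _ _ _)ᵀ = _
  simp only [Matrix.J, Matrix.fromBlocks_multiply, Matrix.fromBlocks_transpose,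
    Matrix.transpose_zero, Matrix.transpose_transpose, Matrix.mul_zero, Matrix.zero_mul, add_zero,
    zero_add, Matrix.mul_neg, Matrix.mul_one, Matrix.neg_mul, sl_mul_inv_val,
    ← Matrix.transpose_mul, Matrix.transpose_one, neg_zero]

/-- `SL_m` inside `Sp_{2m}`. -/
def slToSp (m : ℕ) : Matrix.SpecialLinearGroup (Fin m) F →* Matrix.symplecticGroup (Fin m) F :=
  (hyperbolic m).codRestrict _ (hyperbolic_mem_symplectic m)

theorem slToSp_injective (m : ℕ) : Function.Injective (slToSp (F := F) m) := fun _ _ h =>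
  hyperbolic_injective m (congrArg Subtype.val h)

/-- The sum of products of the two halves is invariant. -/
theorem hyperbolic_sum (m : ℕ) (A : Matrix.SpecialLinearGroup (Fin m) F)
    (v : Fin m ⊕ Fin m → F) :
    ∑ i : Fin m, (hyperbolic m A *ᵥ v) (.inl i) * (hyperbolic m A *ᵥ v) (.inr i) =
      ∑ i : Fin m, v (.inl i) * v (.inr i) := by
  show ∑ i : Fin m, (Matrix.fromBlocks A.1 0 0 (A⁻¹).1ᵀ *ᵥ v) (.inl i) *
    (Matrix.fromBlocks A.1 0 0 (A⁻¹).1ᵀ *ᵥ v) (.inr i) = _
  simp only [Matrix.fromBlocks_mulVec, Sum.elim_inl, Sum.elim_inr, Matrix.zero_mulVec, add_zero,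
    zero_add]
  show (A.1 *ᵥ (v ∘ Sum.inl)) ⬝ᵥ ((A⁻¹).1ᵀ *ᵥ (v ∘ Sum.inr)) = (v ∘ Sum.inl) ⬝ᵥ (v ∘ Sum.inr)
  rw [Matrix.mulVec_transpose, dotProduct_comm, ← Matrix.dotProduct_mulVec, Matrix.mulVec_mulVec,
    sl_inv_mul_val, Matrix.one_mulVec, dotProduct_comm]

/-- An injective matrix representation preserving `Q` gives a map into the isometry group. -/
theorem exists_hom_isometry {ι : Type} [Fintype ι] [DecidableEq ι] {K : Type*} [Group K]
    (Q : (ι → F) → F) (φ : K →* Matrix ι ι F) (hφ : Function.Injective φ)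
    (hQ : ∀ k v, Q (φ k *ᵥ v) = Q v) :
    ∃ ψ : K →* Cfsg.isometryGroup F Q, Function.Injective ψ :=
  ⟨φ.toHomUnits.codRestrict _ (fun k => fun u _ => hQ k u), fun a b h =>
    hφ (congrArg (fun g : Cfsg.isometryGroup F Q => (g.1 : Matrix ι ι F)) h)⟩

theorem exists_hom_plus (m : ℕ) :
    ∃ ψ : Matrix.SpecialLinearGroup (Fin m) F →* Cfsg.isometryGroup F (Cfsg.quadFormPlus m F),
      Function.Injective ψ :=
  exists_hom_isometry _ (hyperbolic m) (hyperbolic_injective m) (hyperbolic_sum m)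

theorem exists_hom_odd (m : ℕ) :
    ∃ ψ : Matrix.SpecialLinearGroup (Fin m) F →* Cfsg.isometryGroup F (Cfsg.quadFormOdd m F),
      Function.Injective ψ := by
  let φ : Matrix.SpecialLinearGroup (Fin m) F →*
      Matrix (Unit ⊕ (Fin m ⊕ Fin m)) (Unit ⊕ (Fin m ⊕ Fin m)) F :=
    { toFun := fun A => Matrix.fromBlocks 1 0 0 (hyperbolic m A)
      map_one' := by simp [Matrix.fromBlocks_one]
      map_mul' := fun A B => by simp [Matrix.fromBlocks_multiply] }
  refine exists_hom_isometry _ φ (fun A B h => hyperbolic_injective m (Matrix.fromBlocks_inj.1 h).2.2.2) ?_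
  intro A v
  show Cfsg.quadFormOdd m F (Matrix.fromBlocks 1 0 0 (hyperbolic m A) *ᵥ v) = _
  simp only [Cfsg.quadFormOdd, Matrix.fromBlocks_mulVec, Sum.elim_inl, Sum.elim_inr,
    Matrix.zero_mulVec, add_zero, zero_add, Matrix.one_mulVec, Function.comp_apply]
  rw [hyperbolic_sum]
  rfl

theorem exists_hom_minus (m : ℕ) (a b : F) :
    ∃ ψ : Matrix.SpecialLinearGroup (Fin m) F →* Cfsg.isometryGroup F (Cfsg.quadFormMinus m F a b),
      Function.Injective ψ := by
  let φ : Matrix.SpecialLinearGroup (Fin m) F →*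
      Matrix ((Fin m ⊕ Fin m) ⊕ Fin 2) ((Fin m ⊕ Fin m) ⊕ Fin 2) F :=
    { toFun := fun A => Matrix.fromBlocks (hyperbolic m A) 0 0 1
      map_one' := by simp [Matrix.fromBlocks_one]
      map_mul' := fun A B => by simp [Matrix.fromBlocks_multiply] }
  refine exists_hom_isometry _ φ (fun A B h => hyperbolic_injective m (Matrix.fromBlocks_inj.1 h).1) ?_
  intro A v
  show Cfsg.quadFormMinus m F a b (Matrix.fromBlocks (hyperbolic m A) 0 0 1 *ᵥ v) = _
  simp only [Cfsg.quadFormMinus, Matrix.fromBlocks_mulVec, Sum.elim_inl, Sum.elim_inr,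
    Matrix.zero_mulVec, add_zero, zero_add, Matrix.one_mulVec, Function.comp_apply]
  rw [hyperbolic_sum]
  rfl

/-- Two orders of magnitude: a group given by matrices has bounded order. -/
theorem card_le_of_equiv_quotient {ι : Type*} [Fintype ι] {G H : Type*} [Group G] [Group H]
    [Fintype F] (toMat : H → Matrix ι ι F)
    (hinj : Function.Injective toMat) (Z : Subgroup H) (e : G ≃ H ⧸ Z) :
    Nat.card G ≤ Fintype.card F ^ (Fintype.card ι * Fintype.card ι) := by
  haveI : Finite H := Finite.of_injective toMat hinj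
  rw [Nat.card_congr e]
  calc Nat.card (H ⧸ Z) ≤ Nat.card H := Nat.card_le_card_of_surjective _ Quotient.mk''_surjective
    _ ≤ Nat.card (Matrix ι ι F) := Nat.card_le_card_of_injective toMat hinj
    _ = _ := by
      show Nat.card (ι → ι → F) = _
      rw [Nat.card_fun, Nat.card_fun, Nat.card_eq_fintype_card, Nat.card_eq_fintype_card,
        ← pow_mul]

end CfsgLib.Word
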