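import Mathlib
import Cfsg.Agent.Lib.Word.Classical

/-!
Word maps on the special unitary groups.
-/

set_option autoImplicit false

namespace CfsgLib.Word

open Matrix

variable {F : Type*} [Field F]

/-- Permutation matrices preserve the standard Hermitian form. -/
theorem exists_hom_alt_SU (n q : ℕ) :
    ∃ ψ : alternatingGroup (Fin n) →* Cfsg.SU n F q, Function.Injective ψ := by
  refine ⟨(altToSL (F := F) n).codRestrict _ ?_, fun a b h =>
    altToSL_injective n (congrArg Subtype.val h)⟩
  intro σ u v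
  show Cfsg.hermForm n F q ((σ.1⁻¹).permMatrix F *ᵥ u) ((σ.1⁻¹).permMatrix F *ᵥ v) = _
  rw [Matrix.permMatrix_mulVec, Matrix.permMatrix_mulVec]
  exact Equiv.sum_comp σ.1⁻¹ fun i => u i * v i ^ q

section Large

variable [Fintype F] {q : ℕ}

theorem q_pos (hq : Fintype.card F = q ^ 2) : 2 ≤ q := by
  have := Fintype.one_lt_card (α := F)
  by_contra h
  push Not at h
  interval_cases q <;> simp at hq <;> omega

theorem pow_q_q (hq : Fintype.card F = q ^ 2) (x : F) : (x ^ q) ^ q = x := by
  rw [← pow_mul, ← sq, ← hq, FiniteField.pow_card]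

theorem exists_additive (hq : Fintype.card F = q ^ 2) :
    ∀ x y : F, (x + y) ^ q = x ^ q + y ^ q := by
  obtain ⟨p, hp⟩ := CharP.exists F
  obtain ⟨n, hpp, hn⟩ := FiniteField.card F p
  haveI := Fact.mk hpp
  have hdvd : q ∣ p ^ (n : ℕ) := by rw [← hn, hq, sq]; exact dvd_mul_right q q
  obtain ⟨k, -, rfl⟩ := (Nat.dvd_prime_pow hpp).1 hdvd
  exact fun x y => add_pow_char_pow x y p k

theorem sub_pow_q (hq : Fintype.card F = q ^ 2) (x y : F) : (x - y) ^ q = x ^ q - y ^ q := by
  rw [eq_sub_iff_add_eq, ← exists_additive hq, sub_add_cancel]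

theorem zero_pow_q (hq : Fintype.card F = q ^ 2) : (0 : F) ^ q = 0 :=
  zero_pow (by have := q_pos hq; omega)

theorem neg_pow_q (hq : Fintype.card F = q ^ 2) (x : F) : (-x) ^ q = -x ^ q := by
  have h := sub_pow_q hq 0 x
  rwa [zero_sub, zero_pow_q hq, zero_sub] at h

/-- The fibres of the norm are small, so its image is large. -/
theorem norm_image_card [DecidableEq F] (hq : Fintype.card F = q ^ 2) :
    q - 1 ≤ (Finset.univ.image fun x : F => x ^ (q + 1)).card := by
  have h : (Finset.univ : Finset F).card ≤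
      (q + 1) * (Finset.univ.image fun x : F => x ^ (q + 1)).card := by
    refine Finset.card_le_mul_card_image _ _ fun a _ => ?_
    calc (Finset.univ.filter fun x : F => x ^ (q + 1) = a).card
        ≤ (Polynomial.nthRoots (q + 1) a).toFinset.card := Finset.card_le_card fun x hx => by
          rw [Multiset.mem_toFinset, Polynomial.mem_nthRoots (by omega)]
          exact (Finset.mem_filter.1 hx).2
      _ ≤ Multiset.card (Polynomial.nthRoots (q + 1) a) := Multiset.toFinset_card_le _
      _ ≤ q + 1 := Polynomial.card_nthRoots _ _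
  rw [Finset.card_univ, hq] at h
  have h' : (q + 1) * (q - 1) ≤ (q + 1) * (Finset.univ.image fun x : F => x ^ (q + 1)).card := by
    refine le_trans ?_ h
    rcases q with _ | q
    · simp
    · simp only [Nat.add_sub_cancel]; nlinarith
  exact Nat.le_of_mul_le_mul_left h' (by omega)

theorem norm_fixed (hq : Fintype.card F = q ^ 2) (x : F) :
    (x ^ (q + 1)) ^ q = x ^ (q + 1) := by
  rw [← pow_mul, show (q + 1) * q = q * q + q by ring, pow_add, pow_mul, pow_q_q hq, pow_succ',
    mul_comm]

theorem exists_not_fixed (hq : Fintype.card F = q ^ 2) : ∃ z : F, z ^ q ≠ z := by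
  classical
  have hq2 := q_pos hq
  by_contra hc
  push Not at hc
  have hne : (Polynomial.X ^ q - Polynomial.X : Polynomial F) ≠ 0 :=
    FiniteField.X_pow_card_sub_X_ne_zero F (by omega)
  refine hne (Polynomial.eq_zero_of_natDegree_lt_card_of_eval_eq_zero' _ Finset.univ
    (fun x _ => by simp [hc x]) ?_)
  rw [FiniteField.X_pow_card_sub_X_natDegree_eq F (by omega : 1 < q), Finset.card_univ, hq]
  nlinarith

/-- An element `ε` of norm `-1` and a second one. -/
theorem exists_two_norm_neg_one (hq : Fintype.card F = q ^ 2) :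
    ∃ ε η : F, ε ≠ η ∧ ε ^ (q + 1) = -1 ∧ η ^ (q + 1) = -1 := by
  classical
  have hq2 := q_pos hq
  set T := Finset.univ.image fun x : F => x ^ (q + 1) with hT
  -- the image is exactly the set of fixed points of the `q`-th power
  have hroot : T = (Polynomial.X ^ q - Polynomial.X : Polynomial F).roots.toFinset := by
    have hne : (Polynomial.X ^ q - Polynomial.X : Polynomial F) ≠ 0 :=
      FiniteField.X_pow_card_sub_X_ne_zero F (by omega)
    refine Finset.eq_of_subset_of_card_le ?_ ?_
    · intro y hy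
      obtain ⟨x, -, rfl⟩ := Finset.mem_image.1 hy
      simp [Polynomial.mem_roots hne, norm_fixed hq, sub_eq_zero]
    · have h0 : (0 : F) ∈ T := Finset.mem_image.2 ⟨0, Finset.mem_univ _, by simp⟩
      have hdeg : (Polynomial.X ^ q - Polynomial.X : Polynomial F).natDegree = q :=
        FiniteField.X_pow_card_sub_X_natDegree_eq F (by omega)
      have h1 : q ≤ T.card := by
        have h : (Finset.univ.erase (0 : F)).card ≤ (q + 1) * (T.erase 0).card := by
          refine Finset.card_le_mul_card_image_of_maps_to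
            (f := fun x : F => x ^ (q + 1)) ?_ _ ?_
          · intro x hx
            refine Finset.mem_erase.2 ⟨pow_ne_zero _ (Finset.mem_erase.1 hx).1, ?_⟩
            exact Finset.mem_image.2 ⟨x, Finset.mem_univ _, rfl⟩
          · intro a _
            calc _ ≤ (Polynomial.nthRoots (q + 1) a).toFinset.card :=
                  Finset.card_le_card fun x hx => by
                    rw [Multiset.mem_toFinset, Polynomial.mem_nthRoots (by omega)]
                    exact (Finset.mem_filter.1 hx).2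
              _ ≤ Multiset.card (Polynomial.nthRoots (q + 1) a) := Multiset.toFinset_card_le _
              _ ≤ q + 1 := Polynomial.card_nthRoots _ _
        rw [Finset.card_erase_of_mem (Finset.mem_univ _), Finset.card_univ, hq,
          Finset.card_erase_of_mem h0] at h
        by_contra hlt
        push Not at hlt
        have h2 : (q + 1) * (T.card - 1) ≤ (q + 1) * (q - 2) := by
          apply Nat.mul_le_mul_left; omega
        obtain ⟨r, rfl⟩ := Nat.exists_eq_add_of_le hq2
        rw [Nat.add_sub_cancel_left] at h2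
        have h3 := Nat.add_sub_cancel' (show 1 ≤ (2 + r) ^ 2 from Nat.one_le_pow _ _ (by omega))
        nlinarith
      calc _ ≤ Multiset.card (Polynomial.X ^ q - Polynomial.X : Polynomial F).roots :=
            Multiset.toFinset_card_le _
        _ ≤ _ := Polynomial.card_roots' _
        _ ≤ T.card := by rw [hdeg]; exact h1
  have hm1 : (-1 : F) ∈ T := by
    rw [hroot, Multiset.mem_toFinset,
      Polynomial.mem_roots (FiniteField.X_pow_card_sub_X_ne_zero F (by omega))]
    simp [neg_pow_q hq]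
  obtain ⟨ε, -, hε⟩ := Finset.mem_image.1 hm1
  have hε0 : ε ≠ 0 := fun h => by simp [h] at hε
  -- a non-trivial element of norm one: the `(q - 1)`-th power of a suitable element
  obtain ⟨z, hz⟩ := exists_not_fixed hq
  have hz0 : z ≠ 0 := fun h => hz (by simp [h, zero_pow_q hq])
  refine ⟨ε, ε * (z ^ q / z), ?_, hε, ?_⟩
  · intro h
    exact hz ((div_eq_one_iff_eq hz0).1 (mul_left_cancel₀ hε0 (by rw [← h, mul_one])))
  · rw [mul_pow, hε, div_pow, pow_succ' (z ^ q), pow_q_q hq, pow_succ, div_self, mul_one]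
    exact mul_ne_zero (pow_ne_zero _ hz0) hz0

/-- The embedded `2 × 2` computation. -/
theorem form_identity (hq : Fintype.card F = q ^ 2) {ε η : F}
    (hε : ε ^ (q + 1) = -1) (hη : η ^ (q + 1) = -1) (u0 u1 v0 v1 : F) :
    (u0 + u1) * (v0 + v1) ^ q + (ε * u0 + η * u1) * (ε * v0 + η * v1) ^ q =
      (1 + ε * η ^ q) * (u0 * v1 ^ q) + (1 + η * ε ^ q) * (u1 * v0 ^ q) := by
  rw [exists_additive hq, exists_additive hq, mul_pow, mul_pow]
  rw [pow_succ'] at hε hη
  linear_combination (u0 * v0 ^ q) * hε + (u1 * v1 ^ q) * hη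

end Large

/-- Large field: the law fails in `SU_n`. -/
theorem exists_fails_SU_field (w : FreeGroup ℕ) (hw : w ≠ 1) :
    ∃ N : ℕ, ∀ (F : Type*) [Field F] [Fintype F] (q k : ℕ), Fintype.card F = q ^ 2 → N ≤ q →
      ∃ f : ℕ → Cfsg.SU (2 + k) F q,
        FreeGroup.lift f w ∉ Subgroup.center (Cfsg.SU (2 + k) F q) := by
  classical
  obtain ⟨D, hD⟩ := exists_eval_not_scalar w hw
  refine ⟨D + 2, ?_⟩
  intro F _ _ q k hq hN
  have hq0 : q ≠ 0 := by omega
  obtain ⟨ε, η, hne, hε, hη⟩ := exists_two_norm_neg_one hq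
  set c : F := 1 + ε * η ^ q with hc
  set c' : F := 1 + η * ε ^ q with hc'
  have hcc' : c ^ q = c' := by
    rw [hc, exists_additive hq, one_pow, mul_pow, pow_q_q hq, hc', mul_comm η]
  have hc0 : c ≠ 0 := by
    intro h
    have h1 : (ε - η) * η ^ q = 0 := by
      rw [pow_succ'] at hη
      linear_combination h - hη
    rcases mul_eq_zero.1 h1 with h2 | h2
    · exact hne (sub_eq_zero.1 h2)
    · exact one_ne_zero (α := F) (by simpa [pow_succ', h2] using hη)
  have hc'0 : c' ≠ 0 := hcc' ▸ pow_ne_zero _ hc0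
  obtain ⟨z, hz'⟩ := exists_not_fixed hq
  have hz : z - z ^ q ≠ 0 := sub_ne_zero.2 (Ne.symm hz')
  set δ := z - z ^ q with hδdef
  have hδ : δ ^ q = -δ := by rw [hδdef, sub_pow_q hq, pow_q_q hq, neg_sub]
  -- change of basis
  let P : Matrix (Fin 2) (Fin 2) F := !![1, 1; ε, η]
  have hP : IsUnit P.det := by
    rw [isUnit_iff_ne_zero, Matrix.det_fin_two_of, one_mul, one_mul, sub_ne_zero]
    exact hne.symm
  let conjP : Matrix.SpecialLinearGroup (Fin 2) F →* Matrix.SpecialLinearGroup (Fin 2) F :=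
    { toFun := fun M => ⟨P * M.1 * P⁻¹, by
        rw [Matrix.det_mul, Matrix.det_mul, M.2, mul_one, ← Matrix.det_mul,
          Matrix.mul_nonsing_inv P hP, Matrix.det_one]⟩
      map_one' := Subtype.ext (by simp [Matrix.mul_nonsing_inv P hP])
      map_mul' := fun M N => Subtype.ext (by
        show P * (M.1 * N.1) * P⁻¹ = P * M.1 * P⁻¹ * (P * N.1 * P⁻¹)
        simp only [Matrix.mul_assoc]
        rw [← Matrix.mul_assoc P⁻¹ P, Matrix.nonsing_inv_mul P hP, Matrix.one_mul]) }
  have conjP_inj : Function.Injective conjP := by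
    intro M N h
    apply Subtype.ext
    have h' : P * M.1 * P⁻¹ = P * N.1 * P⁻¹ := congrArg Subtype.val h
    have := congrArg (fun X => P⁻¹ * X * P) h'
    simpa [Matrix.mul_assoc, Matrix.nonsing_inv_mul P hP,
      Matrix.nonsing_inv_mul_cancel_left P _ hP] using this
  let ψ := (slCorner (F := F) k).comp conjP
  have ψ_inj : Function.Injective ψ := (slCorner_injective k).comp conjP_inj
  let K := (Cfsg.SU (2 + k) F q).comap ψ
  have memK : ∀ M : Matrix.SpecialLinearGroup (Fin 2) F,
      (∀ a b : Fin 2 → F,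
        c * ((M.1 *ᵥ a) 0 * (M.1 *ᵥ b) 1 ^ q) + c' * ((M.1 *ᵥ a) 1 * (M.1 *ᵥ b) 0 ^ q) =
          c * (a 0 * b 1 ^ q) + c' * (a 1 * b 0 ^ q)) → M ∈ K := by
    intro M hM u v
    show Cfsg.hermForm (2 + k) F q ((ψ M).1 *ᵥ u) ((ψ M).1 *ᵥ v) = Cfsg.hermForm (2 + k) F q u v
    set a := P⁻¹ *ᵥ (fun i => u (Fin.castAdd k i)) with ha
    set b := P⁻¹ *ᵥ (fun i => v (Fin.castAdd k i)) with hb
    have hblock : ∀ x : Fin (2 + k) → F,
        ((∀ i : Fin 2, ((ψ M).1 *ᵥ x) (Fin.castAdd k i) =
          ((P * M.1 * P⁻¹) *ᵥ (fun j => x (Fin.castAdd k j))) i) ∧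
        (∀ i : Fin k, ((ψ M).1 *ᵥ x) (Fin.natAdd 2 i) = x (Fin.natAdd 2 i))) := by
      intro x
      have : (ψ M).1 *ᵥ x = (Matrix.fromBlocks (P * M.1 * P⁻¹) 0 0 1 *ᵥ (x ∘ finSumFinEquiv)) ∘
          finSumFinEquiv.symm := by
        show (Matrix.reindex finSumFinEquiv finSumFinEquiv _) *ᵥ x = _
        rw [Matrix.reindex_apply, Matrix.submatrix_mulVec_equiv, Equiv.symm_symm]
        rfl
      rw [this]
      refine ⟨fun i => ?_, fun i => ?_⟩
      · simp [Matrix.fromBlocks_mulVec, Function.comp_def]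
      · simp [Matrix.fromBlocks_mulVec, Function.comp_def]
    simp only [Cfsg.hermForm, Fin.sum_univ_add, (hblock u).2, (hblock v).2]
    congr 1
    simp only [(hblock u).1, (hblock v).1, ← Matrix.mulVec_mulVec, Fin.sum_univ_two]
    rw [← ha, ← hb]
    have hu : (fun i => u (Fin.castAdd k i)) = P *ᵥ a := by
      rw [ha, Matrix.mulVec_mulVec, Matrix.mul_nonsing_inv P hP, Matrix.one_mulVec]
    have hv : (fun i => v (Fin.castAdd k i)) = P *ᵥ b := by
      rw [hb, Matrix.mulVec_mulVec, Matrix.mul_nonsing_inv P hP, Matrix.one_mulVec]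
    rw [show u (Fin.castAdd k 0) = (P *ᵥ a) 0 from congrFun hu 0,
      show u (Fin.castAdd k 1) = (P *ᵥ a) 1 from congrFun hu 1,
      show v (Fin.castAdd k 0) = (P *ᵥ b) 0 from congrFun hv 0,
      show v (Fin.castAdd k 1) = (P *ᵥ b) 1 from congrFun hv 1]
    have hexp : ∀ s : Fin 2 → F, (P *ᵥ s) 0 = s 0 + s 1 ∧ (P *ᵥ s) 1 = ε * s 0 + η * s 1 :=
      fun s => ⟨by simp [P, Matrix.mulVec, dotProduct, Fin.sum_univ_two],
        by simp [P, Matrix.mulVec, dotProduct, Fin.sum_univ_two]⟩
    simp only [(hexp _).1, (hexp _).2, form_identity hq hε hη]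
    exact hM a b
  set S := Finset.univ.image fun x : F => x ^ (q + 1) with hS
  have hfix : ∀ x ∈ S, x ^ q = x := by
    intro x hx
    obtain ⟨y, -, rfl⟩ := Finset.mem_image.1 hx
    exact norm_fixed hq y
  have hupp : ∀ t : F, t ^ q = t → upp (δ / c * t) ∈ K := by
    intro t ht
    refine memK _ fun a b => ?_
    have hs : c * (δ / c * t) + c' * (δ / c * t) ^ q = 0 := by
      rw [mul_pow, div_pow, hδ, ht, hcc']
      field_simp
      ring
    generalize δ / c * t = s at hs ⊢
    simp only [upp_val, Matrix.mulVec, dotProduct, Fin.sum_univ_two]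
    simp only [Matrix.of_apply, Matrix.cons_val', Matrix.cons_val_zero, Matrix.cons_val_one,
      Matrix.cons_val_fin_one, one_mul, zero_mul, zero_add, exists_additive hq, mul_pow]
    linear_combination (a 1 * b 1 ^ q) * hs
  have hlow : ∀ t : F, t ^ q = t → low (δ / c' * t) ∈ K := by
    intro t ht
    refine memK _ fun a b => ?_
    have hs : c' * (δ / c' * t) + c * (δ / c' * t) ^ q = 0 := by
      rw [mul_pow, div_pow, hδ, ht, ← hcc', pow_q_q hq]
      field_simp
      ring
    generalize δ / c' * t = s at hs ⊢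
    simp only [low_val, Matrix.mulVec, dotProduct, Fin.sum_univ_two]
    simp only [Matrix.of_apply, Matrix.cons_val', Matrix.cons_val_zero, Matrix.cons_val_one,
      Matrix.cons_val_fin_one, one_mul, zero_mul, add_zero, exists_additive hq, mul_pow]
    linear_combination (a 0 * b 0 ^ q) * hs
  have hpow : ∀ x : F, x ^ q = x → ∀ i : ℕ, (x ^ i) ^ q = x ^ i := fun x hx i => by
    rw [← pow_mul, mul_comm, pow_mul, hx]
  have hα : δ / c ≠ 0 := div_ne_zero hz hc0
  have hβ : δ / c' ≠ 0 := div_ne_zero hz hc'0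
  have hSc : D < S.card := by
    have := norm_image_card (F := F) hq
    rw [← hS] at this
    omega
  obtain ⟨x, hxS, hx⟩ := hD F (δ / c) (δ / c') S hα hβ hSc
  have hgen : ∀ i, ψ (gen (δ / c) (δ / c') x i) ∈ Cfsg.SU (2 + k) F q := fun i =>
    K.mul_mem (hupp _ (hpow x (hfix x hxS) _)) (hlow _ (hpow x (hfix x hxS) _))
  refine ⟨fun i => ⟨ψ (gen (δ / c) (δ / c') x i), hgen i⟩, fun hcen => hx ?_⟩
  have key : ψ (FreeGroup.lift (gen (δ / c) (δ / c') x) w) =
      (Cfsg.SU (2 + k) F q).subtype (FreeGroup.lift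
        (fun i => (⟨ψ (gen (δ / c) (δ / c') x i), hgen i⟩ : Cfsg.SU (2 + k) F q)) w) := by
    rw [← lift_comp, ← lift_comp]; rfl
  have hu1 : ψ (upp (δ / c)) ∈ Cfsg.SU (2 + k) F q := by
    have := hupp 1 (one_pow q); rwa [mul_one] at this
  have hl1 : ψ (low (δ / c')) ∈ Cfsg.SU (2 + k) F q := by
    have := hlow 1 (one_pow q); rwa [mul_one] at this
  refine isScalar2_of_commute hα hβ ?_ ?_
  · apply ψ_inj
    rw [map_mul, map_mul, key]
    exact (congrArg Subtype.val (Subgroup.mem_center_iff.1 hcen ⟨_, hu1⟩)).symm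
  · apply ψ_inj
    rw [map_mul, map_mul, key]
    exact (congrArg Subtype.val (Subgroup.mem_center_iff.1 hcen ⟨_, hl1⟩)).symm

end CfsgLib.Word
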